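import Mathlib

/-!
# Tensor products with an algebra separated by its rational points

If `B` is a `k`-algebra such that the `k`-algebra homomorphisms `B → k` separate the elements of
`B`, then `B ⊗[k] C` is reduced for every reduced `k`-algebra `C`.
-/

set_option autoImplicit false

open TensorProduct

namespace Groth.Agent.Lib.Helper19.RatPts

theorem isReduced_tensorProduct_of_sections {k B C : Type*} [Field k] [CommRing B] [CommRing C]
    [Algebra k B] [Algebra k C] [IsReduced C]
    (D : Set (B →ₐ[k] k)) (hD : ∀ b : B, (∀ d ∈ D, d b = 0) → b = 0) :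
    IsReduced (B ⊗[k] C) := by
  classical
  refine ⟨fun x hx => ?_⟩
  let 𝒞 := Module.Free.chooseBasis k C
  obtain ⟨b, rfl⟩ := TensorProduct.eq_repr_basis_right (M := B) 𝒞 x
  suffices h : b = 0 by rw [h]; simp
  ext i
  rw [Finsupp.zero_apply]
  apply hD
  intro d hd
  let ψ : B ⊗[k] C →ₐ[k] C :=
    (Algebra.TensorProduct.lid k C).toAlgHom.comp (Algebra.TensorProduct.map d (AlgHom.id k C))
  have h0 : ψ (b.sum fun i m => m ⊗ₜ[k] 𝒞 i) = 0 := (hx.map ψ).eq_zero
  have h1 : ψ (b.sum fun i m => m ⊗ₜ[k] 𝒞 i) =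
      Finsupp.linearCombination k 𝒞 (b.mapRange d (map_zero d)) := by
    rw [Finsupp.linearCombination_apply, Finsupp.sum_mapRange_index (by simp), Finsupp.sum,
      map_sum, Finsupp.sum]
    refine Finset.sum_congr rfl fun j _ => ?_
    simp [ψ]
  rw [h1] at h0
  have h2 := (linearIndependent_iff.mp 𝒞.linearIndependent) _ h0
  have h3 := DFunLike.congr_fun h2 i
  simpa using h3

end Groth.Agent.Lib.Helper19.RatPts
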