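import Mathlib
import Groth.Agent.Lib.Helper19.RatPts.TensorReduced

/-!
# Schemes with a dense set of rational points are geometrically reduced

If `X` is a reduced scheme over a field `k` with a dense set of `k`-rational points, then
`X ×ₖ T` is reduced for every reduced `k`-scheme `T`.
-/

set_option autoImplicit false
universe u

open CategoryTheory CategoryTheory.Limits AlgebraicGeometry TensorProduct

namespace Groth.Agent.Lib.Helper19.RatPts

/-- affine case -/
theorem isReduced_pullback_Spec {k : Type u} [Field k] {B C : CommRingCat.{u}}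
    (φ : CommRingCat.of k ⟶ B) (γ : CommRingCat.of k ⟶ C) [_root_.IsReduced C]
    (hD : ∀ b : B, (∀ d : B ⟶ CommRingCat.of k, φ ≫ d = 𝟙 _ → d.hom b = 0) → b = 0) :
    IsReduced (pullback (Spec.map φ) (Spec.map γ)) := by
  letI := φ.hom.toAlgebra
  letI := γ.hom.toAlgebra
  have e := pullbackSpecIso k B C
  haveI : _root_.IsReduced (B ⊗[k] C) := by
    refine isReduced_tensorProduct_of_sections (Set.univ) ?_
    intro b hb
    apply hD
    intro d hd
    have hd' : ∀ x : k, d.hom (algebraMap k B x) = x := fun x => by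
      have := congrArg (fun ψ => ψ.hom x) hd
      exact this
    exact hb ⟨d.hom, hd'⟩ (Set.mem_univ _)
  haveI : IsReduced (Spec (.of (B ⊗[k] C))) := inferInstance
  exact isReduced_of_isOpenImmersion e.hom

/-- sections through dense rational points separate the functions on an affine open of a reduced
scheme -/
theorem eq_zero_of_dense_sections {k : Type u} [Field k] {X : Scheme.{u}}
    (f : X ⟶ Spec (CommRingCat.of k)) [IsReduced X]
    (D : Set X) (hD : Dense D)
    (hsec : ∀ x ∈ D, ∃ s : Spec (CommRingCat.of k) ⟶ X, s ≫ f = 𝟙 _ ∧ x ∈ Set.range s)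
    {B : CommRingCat.{u}} (j : Spec B ⟶ X) [IsOpenImmersion j] (φ : CommRingCat.of k ⟶ B)
    (hφ : Spec.map φ = j ≫ f) (b : B)
    (hb : ∀ d : B ⟶ CommRingCat.of k, φ ≫ d = 𝟙 _ → d.hom b = 0) : b = 0 := by
  haveI : IsReduced (Spec B) := isReduced_of_isOpenImmersion j
  haveI : _root_.IsReduced B := (affine_isReduced_iff _).mp inferInstance
  suffices h : IsNilpotent b from h.eq_zero
  rw [← PrimeSpectrum.basicOpen_eq_bot_iff]
  by_contra hne
  have hne' : ((PrimeSpectrum.basicOpen b : TopologicalSpace.Opens (PrimeSpectrum B)) :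
      Set (PrimeSpectrum B)).Nonempty := by
    rw [Set.nonempty_iff_ne_empty]
    intro h0
    apply hne
    ext1
    exact h0
  obtain ⟨y, hy⟩ := hne'
  have hopen : IsOpen (j '' ((PrimeSpectrum.basicOpen b : TopologicalSpace.Opens (PrimeSpectrum B)) :
      Set (PrimeSpectrum B))) := j.isOpenEmbedding.isOpenMap _ (PrimeSpectrum.basicOpen b).2
  obtain ⟨x, hx1, hx2⟩ := hD.inter_open_nonempty _ hopen ⟨j y, y, hy, rfl⟩
  obtain ⟨y', hy', rfl⟩ := hx1
  obtain ⟨s, hs, pt, hpt⟩ := hsec _ hx2
  have hrange : Set.range s ⊆ Set.range j := by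
    rintro _ ⟨pt', rfl⟩
    have : pt' = pt := Subsingleton.elim (α := PrimeSpectrum k) _ _
    rw [this, hpt]
    exact ⟨y', rfl⟩
  let s' : Spec (CommRingCat.of k) ⟶ Spec B := IsOpenImmersion.lift j s hrange
  have hs' : s' ≫ j = s := IsOpenImmersion.lift_fac _ _ _
  let d : B ⟶ CommRingCat.of k := Spec.preimage s'
  have hd : Spec.map d = s' := Spec.map_preimage _
  have hφd : φ ≫ d = 𝟙 _ := by
    apply Spec.map_injective
    rw [Spec.map_comp, hd, hφ, ← Category.assoc, hs', hs, Spec.map_id]
  have hdb := hb d hφd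
  have hy'' : s' pt = y' := by
    apply j.isOpenEmbedding.injective
    rw [← Scheme.Hom.comp_apply, hs', hpt]
  apply hy'
  rw [← hy'', ← hd]
  show b ∈ (PrimeSpectrum.comap d.hom pt).asIdeal
  rw [PrimeSpectrum.comap_asIdeal, Ideal.mem_comap, hdb]
  exact zero_mem _

/-- If `X` is a reduced scheme over a field `k` with a dense set of `k`-rational points, then
`X ×ₖ T` is reduced for every reduced `k`-scheme `T`. -/
theorem isReduced_pullback_of_dense_sections {k : Type u} [Field k] {X T : Scheme.{u}}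
    (f : X ⟶ Spec (CommRingCat.of k)) (g : T ⟶ Spec (CommRingCat.of k)) [IsReduced X] [IsReduced T]
    (D : Set X) (hD : Dense D)
    (hsec : ∀ x ∈ D, ∃ s : Spec (CommRingCat.of k) ⟶ X, s ≫ f = 𝟙 _ ∧ x ∈ Set.range s) :
    IsReduced (pullback f g) := by
  let 𝒰 := Scheme.Pullback.openCoverOfLeftRight X.affineOpenCover.openCover
    T.affineOpenCover.openCover f g
  refine @IsReduced.of_openCover _ 𝒰 ?_
  rintro ⟨i, j⟩
  let jX : Spec (X.affineOpenCover.X i) ⟶ X := X.affineOpenCover.f i
  let jT : Spec (T.affineOpenCover.X j) ⟶ T := T.affineOpenCover.f j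
  show IsReduced (pullback (jX ≫ f) (jT ≫ g))
  let φ : CommRingCat.of k ⟶ X.affineOpenCover.X i := Spec.preimage (jX ≫ f)
  let γ : CommRingCat.of k ⟶ T.affineOpenCover.X j := Spec.preimage (jT ≫ g)
  have hφ : Spec.map φ = jX ≫ f := Spec.map_preimage _
  have hγ : Spec.map γ = jT ≫ g := Spec.map_preimage _
  rw [← hφ, ← hγ]
  haveI : IsReduced (Spec (T.affineOpenCover.X j)) := isReduced_of_isOpenImmersion jT
  haveI : _root_.IsReduced (T.affineOpenCover.X j) := (affine_isReduced_iff _).mp inferInstance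
  apply isReduced_pullback_Spec
  intro b hb
  exact eq_zero_of_dense_sections f D hD hsec jX φ hφ b hb

end Groth.Agent.Lib.Helper19.RatPts
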