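import Mathlib
import Groth.Agent.Lib.Helper19.RatPts.ProdDense

set_option autoImplicit false
set_option linter.style.haveILetI false
universe u
open CategoryTheory CategoryTheory.Limits MonoidalCategory CartesianMonoidalCategory AlgebraicGeometry
open scoped TensorProduct

namespace Groth.Agent.Lib.Helper19.AffProd

/-- flat density of the generic fibre: over a domain `A` with fraction field `K`, a closed
subscheme of a flat `A`-scheme `X` through which the generic fibre `X_K → X` factors is `X`. -/
theorem isIso_of_flat_generic {A : Type u} [CommRing A] [IsDomain A] (K : Type u) [Field K]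
    [Algebra A K] [IsFractionRing A K] {X E : Scheme.{u}} (f : X ⟶ Spec (CommRingCat.of A))
    [Flat f] (c : E ⟶ X) [IsClosedImmersion c]
    (e : pullback f (Spec.map (CommRingCat.ofHom (algebraMap A K))) ⟶ E)
    (he : e ≫ c = pullback.fst _ _) : IsIso c := by
  apply isIso_of_forall_exists_chart
  intro x
  obtain ⟨_, ⟨V : X.Opens, hV : IsAffineOpen V, rfl⟩, hxV, -⟩ :=
    X.isBasis_affineOpens.exists_subset_of_mem_open (Set.mem_univ x) isOpen_univ
  obtain ⟨ψ, hψ : Spec.map ψ = hV.fromSpec ≫ f⟩ := Spec.homEquiv.symm.surjective (hV.fromSpec ≫ f)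
  letI : Algebra A Γ(X, V) := ψ.hom.toAlgebra
  refine ⟨Spec Γ(X, V), hV.fromSpec, inferInstance, by rw [hV.range_fromSpec]; exact hxV, ?_⟩
  have hflat : Module.Flat A Γ(X, V) := by
    have h1 : Flat (Spec.map ψ) := by rw [hψ]; infer_instance
    have h2 := (HasRingHomProperty.Spec_iff (P := @Flat)).mp h1
    exact h2
  obtain ⟨I, hI, hfac⟩ := exists_ideal_of_isClosedImmersion (pullback.snd c hV.fromSpec)
  apply hI
  rw [eq_bot_iff]
  intro b hb
  rw [Ideal.mem_bot]
  have hinj : Function.Injective (Algebra.TensorProduct.includeLeft (R := A) (S := A)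
      (A := Γ(X, V)) (B := K)) :=
    Algebra.TensorProduct.includeLeft_injective (IsFractionRing.injective A K)
  have hle := (hfac (CommRingCat.of (Γ(X, V) ⊗[A] K))
    (CommRingCat.ofHom (Algebra.TensorProduct.includeLeft (R := A) (S := A)
      (A := Γ(X, V)) (B := K)).toRingHom)).mp ?_
  · have h3 := hle hb
    rw [RingHom.mem_ker] at h3
    exact hinj (h3.trans (map_zero _).symm)
  · have hw : (Spec.map (CommRingCat.ofHom (Algebra.TensorProduct.includeLeft (R := A) (S := A)
          (A := Γ(X, V)) (B := K)).toRingHom) ≫ hV.fromSpec) ≫ f =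
        Spec.map (CommRingCat.ofHom (Algebra.TensorProduct.includeRight (R := A)
          (A := Γ(X, V)) (B := K)).toRingHom) ≫
          Spec.map (CommRingCat.ofHom (algebraMap A K)) := by
      rw [Category.assoc, ← hψ, ← Spec.map_comp, ← Spec.map_comp]
      congr 1
      ext a
      change (algebraMap A Γ(X, V) a) ⊗ₜ[A] (1 : K) = (1 : Γ(X, V)) ⊗ₜ[A] (algebraMap A K a)
      rw [Algebra.algebraMap_eq_smul_one, Algebra.algebraMap_eq_smul_one, TensorProduct.smul_tmul]
    refine ⟨pullback.lift (pullback.lift _ _ hw ≫ e) (Spec.map _) ?_, pullback.lift_snd _ _ _⟩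
    rw [Category.assoc, he, pullback.lift_fst]

end Groth.Agent.Lib.Helper19.AffProd
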